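import Mathlib
import Cfsg.Agent.Recog71.SL2Orders

set_option autoImplicit false
set_option maxRecDepth 10000

/-!
Element orders of `PSL₂` over thirteen elements.
-/

namespace Cfsg.Agent.KS58.PSL13

open Matrix

variable {E : Type*} [Field E] [Fintype E]

theorem eq_one_or_neg_one {B : Matrix.SpecialLinearGroup (Fin 2) E}
    (h : (B : Matrix (Fin 2) (Fin 2) E) * B = 1) (h2 : (2 : E) ≠ 0) :
    (B : Matrix (Fin 2) (Fin 2) E) = 1 ∨ (B : Matrix (Fin 2) (Fin 2) E) = -1 := by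
  have hadj : (B : Matrix (Fin 2) (Fin 2) E) = (B : Matrix (Fin 2) (Fin 2) E).adjugate := by
    have h1 : (B : Matrix (Fin 2) (Fin 2) E) * (B : Matrix (Fin 2) (Fin 2) E).adjugate = 1 := by
      rw [Matrix.mul_adjugate, B.det_coe, one_smul]
    calc (B : Matrix (Fin 2) (Fin 2) E)
        = B * ((B : Matrix (Fin 2) (Fin 2) E) * (B : Matrix (Fin 2) (Fin 2) E).adjugate) := by
          rw [h1, mul_one]
      _ = (B : Matrix (Fin 2) (Fin 2) E).adjugate := by rw [← mul_assoc, h, one_mul]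
  rw [Matrix.adjugate_fin_two] at hadj
  have e00 := congrFun (congrFun hadj 0) 0
  have e01 := congrFun (congrFun hadj 0) 1
  have e10 := congrFun (congrFun hadj 1) 0
  simp at e00 e01 e10
  have hb : B 0 1 = 0 := by
    have : (2 : E) * B 0 1 = 0 := by linear_combination e01
    exact (mul_eq_zero.mp this).resolve_left h2
  have hc : B 1 0 = 0 := by
    have : (2 : E) * B 1 0 = 0 := by linear_combination e10
    exact (mul_eq_zero.mp this).resolve_left h2
  have hd := B.det_coe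
  rw [Matrix.det_fin_two, hb, zero_mul, sub_zero, ← e00] at hd
  rcases mul_self_eq_one_iff.mp hd with ha | ha
  · left
    ext i j
    fin_cases i <;> fin_cases j <;> simp [hb, hc, ha, ← e00]
  · right
    ext i j
    fin_cases i <;> fin_cases j <;> simp [hb, hc, ha, ← e00]

theorem mk_pow_eq_one {g : Matrix.SpecialLinearGroup (Fin 2) E} {n : ℕ}
    (h : (g : Matrix (Fin 2) (Fin 2) E) ^ n = 1 ∨ (g : Matrix (Fin 2) (Fin 2) E) ^ n = -1) :
    (QuotientGroup.mk g : ProjectiveSpecialLinearGroup (Fin 2) E) ^ n = 1 := by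
  rw [← QuotientGroup.mk_pow]
  refine (QuotientGroup.eq_one_iff _).mpr (Subgroup.mem_center_iff.mpr fun x => Subtype.ext ?_)
  show (x : Matrix (Fin 2) (Fin 2) E) * (g : Matrix (Fin 2) (Fin 2) E) ^ n =
    (g : Matrix (Fin 2) (Fin 2) E) ^ n * (x : Matrix (Fin 2) (Fin 2) E)
  rcases h with h | h <;> rw [h] <;> simp

theorem two_ne (hE : Fintype.card E = 13) : (2 : E) ≠ 0 := by
  intro h2
  have h13 : (13 : E) = 0 := by
    have := FiniteField.cast_card_eq_zero E
    rw [hE] at this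
    exact_mod_cast this
  have : (1 : E) = 0 := by linear_combination h13 - 6 * h2
  exact one_ne_zero this

theorem charP (hE : Fintype.card E = 13) : CharP E 13 := by
  haveI : Fact (Nat.Prime 13) := ⟨by norm_num⟩
  exact charP_of_card_eq_prime_pow (f := 1) (by rw [hE]; norm_num)

theorem orderOf_cases (hE : Fintype.card E = 13) (y : ProjectiveSpecialLinearGroup (Fin 2) E) :
    orderOf y ∣ 6 ∨ orderOf y ∣ 7 ∨ orderOf y ∣ 13 := by
  haveI : Fact (Nat.Prime 13) := ⟨by norm_num⟩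
  haveI := charP hE
  obtain ⟨g, rfl⟩ := QuotientGroup.mk_surjective y
  have key : ∀ n, (g : Matrix (Fin 2) (Fin 2) E) ^ (2 * n) = 1 →
      (QuotientGroup.mk g : ProjectiveSpecialLinearGroup (Fin 2) E) ^ n = 1 := by
    intro n hn
    apply mk_pow_eq_one
    have h2 : ((g ^ n : Matrix.SpecialLinearGroup (Fin 2) E) : Matrix (Fin 2) (Fin 2) E) =
        (g : Matrix (Fin 2) (Fin 2) E) ^ n := Matrix.SpecialLinearGroup.coe_pow g n
    rw [← h2]
    apply eq_one_or_neg_one _ (two_ne hE)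
    rw [h2, ← pow_add, ← two_mul, hn]
  rcases Recog71.sl2_pow_cases 13 g with h | h | h | h
  · exact Or.inl (orderOf_dvd_of_pow_eq_one (key 6 (by rw [hE] at h; exact h)))
  · exact Or.inr (Or.inl (orderOf_dvd_of_pow_eq_one (key 7 (by rw [hE] at h; exact h))))
  · exact Or.inr (Or.inr (orderOf_dvd_of_pow_eq_one (mk_pow_eq_one (Or.inl h))))
  · exact Or.inr (Or.inr (orderOf_dvd_of_pow_eq_one (mk_pow_eq_one (Or.inr h))))

/-- A matrix of determinant one with the given trace. -/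
def wit (t : ZMod 13) : Matrix.SpecialLinearGroup (Fin 2) (ZMod 13) :=
  ⟨!![0, -1; 1, t], by simp [Matrix.det_fin_two]⟩

theorem wit_facts :
    ((wit 9).1 * (wit 9).1) * (wit 9).1 * (((wit 9).1 * (wit 9).1) * (wit 9).1) = -1 ∧
    (((wit 9).1 * (wit 9).1) 1 0 ≠ 0) ∧ ((((wit 9).1 * (wit 9).1) * (wit 9).1) 1 0 ≠ 0) := by
  decide +kernel

theorem wit_seven : ∃ t : ZMod 13, (wit t).1 ^ 7 = 1 ∧ (wit t).1 1 0 ≠ 0 := by
  decide +kernel

theorem wit_thirteen : ∃ t : ZMod 13, (wit t).1 ^ 13 = 1 ∧ (wit t).1 1 0 ≠ 0 := by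
  decide +kernel

theorem exists_orders (hE : Fintype.card E = 13) :
    (∃ y : ProjectiveSpecialLinearGroup (Fin 2) E, orderOf y = 6) ∧
    (∃ y : ProjectiveSpecialLinearGroup (Fin 2) E, orderOf y = 7) ∧
    (∃ y : ProjectiveSpecialLinearGroup (Fin 2) E, orderOf y = 13) := by
  haveI : Fact (Nat.Prime 13) := ⟨by norm_num⟩
  haveI := charP hE
  set f : ZMod 13 →+* E := ZMod.castHom (dvd_refl 13) E with hf
  have hfi : Function.Injective f := f.injective
  let π : Matrix.SpecialLinearGroup (Fin 2) (ZMod 13) →* ProjectiveSpecialLinearGroup (Fin 2) E :=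
    (QuotientGroup.mk' _).comp (Matrix.SpecialLinearGroup.map f)
  have hne : ∀ g : Matrix.SpecialLinearGroup (Fin 2) (ZMod 13), g.1 1 0 ≠ 0 → π g ≠ 1 := by
    intro g hg h
    have hc := (QuotientGroup.eq_one_iff _).mp h
    obtain ⟨r, -, hr⟩ := Matrix.SpecialLinearGroup.mem_center_iff.mp hc
    have h10 := congrFun (congrFun hr 1) 0
    simp [Matrix.scalar_apply] at h10
    exact hg ((map_eq_zero_iff f hfi).mp h10.symm)
  have hone : ∀ (g : Matrix.SpecialLinearGroup (Fin 2) (ZMod 13)) (n : ℕ),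
      (g.1 ^ n = 1 ∨ g.1 ^ n = -1) → π g ^ n = 1 := by
    intro g n hn
    apply mk_pow_eq_one
    have e : ((Matrix.SpecialLinearGroup.map f g : Matrix.SpecialLinearGroup (Fin 2) E) : Matrix (Fin 2) (Fin 2) E) ^ n =
        f.mapMatrix (g.1 ^ n) := by
      rw [map_pow]; rfl
    rcases hn with hn | hn
    · left; rw [e, hn, map_one]
    · right; rw [e, hn, map_neg, map_one]
  refine ⟨⟨π (wit 9), ?_⟩, ?_, ?_⟩
  · obtain ⟨h1, h2, h3⟩ := wit_facts
    refine orderOf_eq_of_pow_and_pow_div_prime (by norm_num) (hone _ 6 (Or.inr ?_)) fun r hr hd => ?_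
    · rw [show 6 = (2 + 1) + (2 + 1) from rfl, pow_add, pow_add, pow_two, pow_one]; exact h1
    · rw [show 6 = 2 * 3 from rfl, hr.dvd_mul, Nat.prime_dvd_prime_iff_eq hr Nat.prime_two,
        Nat.prime_dvd_prime_iff_eq hr Nat.prime_three] at hd
      rw [← map_pow]
      rcases hd with rfl | rfl
      · refine hne _ ?_
        show ((wit 9).1 ^ (2 + 1)) 1 0 ≠ 0
        rw [pow_add, pow_two, pow_one]
        exact h3
      · refine hne _ ?_
        show ((wit 9).1 ^ 2) 1 0 ≠ 0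
        rw [pow_two]
        exact h2
  · obtain ⟨t, h1, h2⟩ := wit_seven
    haveI : Fact (Nat.Prime 7) := ⟨by norm_num⟩
    exact ⟨π (wit t), orderOf_eq_prime (hone _ 7 (Or.inl h1)) (hne _ h2)⟩
  · obtain ⟨t, h1, h2⟩ := wit_thirteen
    exact ⟨π (wit t), orderOf_eq_prime (hone _ 13 (Or.inl h1)) (hne _ h2)⟩

end Cfsg.Agent.KS58.PSL13
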